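import Cfsg.Agent.Lib.Helper28.Suz22880.ChkDefs

set_option autoImplicit false
set_option linter.unusedVariables false
set_option Elab.async false

namespace Cfsg.Agent.Lib.Helper28.Suz22880

open Cfsg.Spor.Suz (Gen)
open Cfsg.Agent.Lib.Helper28.TC

noncomputable section

theorem factP_blk96 : allRange factP 6 (96 * 2 ^ 6) = true := by decide +kernel
theorem factP_blk97 : allRange factP 6 (97 * 2 ^ 6) = true := by decide +kernel
theorem factP_blk98 : allRange factP 6 (98 * 2 ^ 6) = true := by decide +kernel
theorem factP_blk99 : allRange factP 6 (99 * 2 ^ 6) = true := by decide +kernel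
theorem factP_blk100 : allRange factP 6 (100 * 2 ^ 6) = true := by decide +kernel
theorem factP_blk101 : allRange factP 6 (101 * 2 ^ 6) = true := by decide +kernel
theorem factP_blk102 : allRange factP 6 (102 * 2 ^ 6) = true := by decide +kernel
theorem factP_blk103 : allRange factP 6 (103 * 2 ^ 6) = true := by decide +kernel
theorem factP_blk104 : allRange factP 6 (104 * 2 ^ 6) = true := by decide +kernel
theorem factP_blk105 : allRange factP 6 (105 * 2 ^ 6) = true := by decide +kernel
theorem factP_blk106 : allRange factP 6 (106 * 2 ^ 6) = true := by decide +kernel
theorem factP_blk107 : allRange factP 6 (107 * 2 ^ 6) = true := by decide +kernel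
theorem factP_blk108 : allRange factP 6 (108 * 2 ^ 6) = true := by decide +kernel
theorem factP_blk109 : allRange factP 6 (109 * 2 ^ 6) = true := by decide +kernel
theorem factP_blk110 : allRange factP 6 (110 * 2 ^ 6) = true := by decide +kernel
theorem factP_blk111 : allRange factP 6 (111 * 2 ^ 6) = true := by decide +kernel
theorem factP_blk112 : allRange factP 6 (112 * 2 ^ 6) = true := by decide +kernel
theorem factP_blk113 : allRange factP 6 (113 * 2 ^ 6) = true := by decide +kernel
theorem factP_blk114 : allRange factP 6 (114 * 2 ^ 6) = true := by decide +kernel
theorem factP_blk115 : allRange factP 6 (115 * 2 ^ 6) = true := by decide +kernel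
theorem factP_blk116 : allRange factP 6 (116 * 2 ^ 6) = true := by decide +kernel
theorem factP_blk117 : allRange factP 6 (117 * 2 ^ 6) = true := by decide +kernel
theorem factP_blk118 : allRange factP 6 (118 * 2 ^ 6) = true := by decide +kernel
theorem factP_blk119 : allRange factP 6 (119 * 2 ^ 6) = true := by decide +kernel
theorem factP_blk120 : allRange factP 6 (120 * 2 ^ 6) = true := by decide +kernel
theorem factP_blk121 : allRange factP 6 (121 * 2 ^ 6) = true := by decide +kernel
theorem factP_blk122 : allRange factP 6 (122 * 2 ^ 6) = true := by decide +kernel
theorem factP_blk123 : allRange factP 6 (123 * 2 ^ 6) = true := by decide +kernel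
theorem factP_blk124 : allRange factP 6 (124 * 2 ^ 6) = true := by decide +kernel
theorem factP_blk125 : allRange factP 6 (125 * 2 ^ 6) = true := by decide +kernel
theorem factP_blk126 : allRange factP 6 (126 * 2 ^ 6) = true := by decide +kernel
theorem factP_blk127 : allRange factP 6 (127 * 2 ^ 6) = true := by decide +kernel
theorem factP_blk128 : allRange factP 6 (128 * 2 ^ 6) = true := by decide +kernel
theorem factP_blk129 : allRange factP 6 (129 * 2 ^ 6) = true := by decide +kernel
theorem factP_blk130 : allRange factP 6 (130 * 2 ^ 6) = true := by decide +kernel
theorem factP_blk131 : allRange factP 6 (131 * 2 ^ 6) = true := by decide +kernel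
theorem factP_blk132 : allRange factP 6 (132 * 2 ^ 6) = true := by decide +kernel
theorem factP_blk133 : allRange factP 6 (133 * 2 ^ 6) = true := by decide +kernel
theorem factP_blk134 : allRange factP 6 (134 * 2 ^ 6) = true := by decide +kernel
theorem factP_blk135 : allRange factP 6 (135 * 2 ^ 6) = true := by decide +kernel
theorem factP_blk136 : allRange factP 6 (136 * 2 ^ 6) = true := by decide +kernel
theorem factP_blk137 : allRange factP 6 (137 * 2 ^ 6) = true := by decide +kernel
theorem factP_blk138 : allRange factP 6 (138 * 2 ^ 6) = true := by decide +kernel
theorem factP_blk139 : allRange factP 6 (139 * 2 ^ 6) = true := by decide +kernel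
theorem factP_blk140 : allRange factP 6 (140 * 2 ^ 6) = true := by decide +kernel
theorem factP_blk141 : allRange factP 6 (141 * 2 ^ 6) = true := by decide +kernel
theorem factP_blk142 : allRange factP 6 (142 * 2 ^ 6) = true := by decide +kernel
theorem factP_blk143 : allRange factP 6 (143 * 2 ^ 6) = true := by decide +kernel
theorem factP_blk144 : allRange factP 6 (144 * 2 ^ 6) = true := by decide +kernel
theorem factP_blk145 : allRange factP 6 (145 * 2 ^ 6) = true := by decide +kernel
theorem factP_blk146 : allRange factP 6 (146 * 2 ^ 6) = true := by decide +kernel
theorem factP_blk147 : allRange factP 6 (147 * 2 ^ 6) = true := by decide +kernel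
theorem factP_blk148 : allRange factP 6 (148 * 2 ^ 6) = true := by decide +kernel
theorem factP_blk149 : allRange factP 6 (149 * 2 ^ 6) = true := by decide +kernel
theorem factP_blk150 : allRange factP 6 (150 * 2 ^ 6) = true := by decide +kernel
theorem factP_blk151 : allRange factP 6 (151 * 2 ^ 6) = true := by decide +kernel
theorem factP_blk152 : allRange factP 6 (152 * 2 ^ 6) = true := by decide +kernel
theorem factP_blk153 : allRange factP 6 (153 * 2 ^ 6) = true := by decide +kernel
theorem factP_blk154 : allRange factP 6 (154 * 2 ^ 6) = true := by decide +kernel
theorem factP_blk155 : allRange factP 6 (155 * 2 ^ 6) = true := by decide +kernel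
theorem factP_blk156 : allRange factP 6 (156 * 2 ^ 6) = true := by decide +kernel
theorem factP_blk157 : allRange factP 6 (157 * 2 ^ 6) = true := by decide +kernel
theorem factP_blk158 : allRange factP 6 (158 * 2 ^ 6) = true := by decide +kernel
theorem factP_blk159 : allRange factP 6 (159 * 2 ^ 6) = true := by decide +kernel
theorem factP_blk160 : allRange factP 6 (160 * 2 ^ 6) = true := by decide +kernel
theorem factP_blk161 : allRange factP 6 (161 * 2 ^ 6) = true := by decide +kernel
theorem factP_blk162 : allRange factP 6 (162 * 2 ^ 6) = true := by decide +kernel
theorem factP_blk163 : allRange factP 6 (163 * 2 ^ 6) = true := by decide +kernel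
theorem factP_blk164 : allRange factP 6 (164 * 2 ^ 6) = true := by decide +kernel
theorem factP_blk165 : allRange factP 6 (165 * 2 ^ 6) = true := by decide +kernel
theorem factP_blk166 : allRange factP 6 (166 * 2 ^ 6) = true := by decide +kernel
theorem factP_blk167 : allRange factP 6 (167 * 2 ^ 6) = true := by decide +kernel
theorem factP_blk168 : allRange factP 6 (168 * 2 ^ 6) = true := by decide +kernel
theorem factP_blk169 : allRange factP 6 (169 * 2 ^ 6) = true := by decide +kernel
theorem factP_blk170 : allRange factP 6 (170 * 2 ^ 6) = true := by decide +kernel
theorem factP_blk171 : allRange factP 6 (171 * 2 ^ 6) = true := by decide +kernel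
theorem factP_blk172 : allRange factP 6 (172 * 2 ^ 6) = true := by decide +kernel
theorem factP_blk173 : allRange factP 6 (173 * 2 ^ 6) = true := by decide +kernel
theorem factP_blk174 : allRange factP 6 (174 * 2 ^ 6) = true := by decide +kernel
theorem factP_blk175 : allRange factP 6 (175 * 2 ^ 6) = true := by decide +kernel
theorem factP_blk176 : allRange factP 6 (176 * 2 ^ 6) = true := by decide +kernel
theorem factP_blk177 : allRange factP 6 (177 * 2 ^ 6) = true := by decide +kernel
theorem factP_blk178 : allRange factP 6 (178 * 2 ^ 6) = true := by decide +kernel
theorem factP_blk179 : allRange factP 6 (179 * 2 ^ 6) = true := by decide +kernel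
theorem factP_blk180 : allRange factP 6 (180 * 2 ^ 6) = true := by decide +kernel
theorem factP_blk181 : allRange factP 6 (181 * 2 ^ 6) = true := by decide +kernel
theorem factP_blk182 : allRange factP 6 (182 * 2 ^ 6) = true := by decide +kernel
theorem factP_blk183 : allRange factP 6 (183 * 2 ^ 6) = true := by decide +kernel
theorem factP_blk184 : allRange factP 6 (184 * 2 ^ 6) = true := by decide +kernel
theorem factP_blk185 : allRange factP 6 (185 * 2 ^ 6) = true := by decide +kernel
theorem factP_blk186 : allRange factP 6 (186 * 2 ^ 6) = true := by decide +kernel
theorem factP_blk187 : allRange factP 6 (187 * 2 ^ 6) = true := by decide +kernel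
theorem factP_blk188 : allRange factP 6 (188 * 2 ^ 6) = true := by decide +kernel
theorem factP_blk189 : allRange factP 6 (189 * 2 ^ 6) = true := by decide +kernel
theorem factP_blk190 : allRange factP 6 (190 * 2 ^ 6) = true := by decide +kernel
theorem factP_blk191 : allRange factP 6 (191 * 2 ^ 6) = true := by decide +kernel
theorem factP_f1 : ∀ k, 96 ≤ k → k < 192 → allRange factP 6 (k * 2 ^ 6) = true := by
  intro k h1 h2
  interval_cases k
  · exact factP_blk96
  · exact factP_blk97
  · exact factP_blk98
  · exact factP_blk99
  · exact factP_blk100
  · exact factP_blk101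
  · exact factP_blk102
  · exact factP_blk103
  · exact factP_blk104
  · exact factP_blk105
  · exact factP_blk106
  · exact factP_blk107
  · exact factP_blk108
  · exact factP_blk109
  · exact factP_blk110
  · exact factP_blk111
  · exact factP_blk112
  · exact factP_blk113
  · exact factP_blk114
  · exact factP_blk115
  · exact factP_blk116
  · exact factP_blk117
  · exact factP_blk118
  · exact factP_blk119
  · exact factP_blk120
  · exact factP_blk121
  · exact factP_blk122
  · exact factP_blk123
  · exact factP_blk124
  · exact factP_blk125
  · exact factP_blk126
  · exact factP_blk127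
  · exact factP_blk128
  · exact factP_blk129
  · exact factP_blk130
  · exact factP_blk131
  · exact factP_blk132
  · exact factP_blk133
  · exact factP_blk134
  · exact factP_blk135
  · exact factP_blk136
  · exact factP_blk137
  · exact factP_blk138
  · exact factP_blk139
  · exact factP_blk140
  · exact factP_blk141
  · exact factP_blk142
  · exact factP_blk143
  · exact factP_blk144
  · exact factP_blk145
  · exact factP_blk146
  · exact factP_blk147
  · exact factP_blk148
  · exact factP_blk149
  · exact factP_blk150
  · exact factP_blk151
  · exact factP_blk152
  · exact factP_blk153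
  · exact factP_blk154
  · exact factP_blk155
  · exact factP_blk156
  · exact factP_blk157
  · exact factP_blk158
  · exact factP_blk159
  · exact factP_blk160
  · exact factP_blk161
  · exact factP_blk162
  · exact factP_blk163
  · exact factP_blk164
  · exact factP_blk165
  · exact factP_blk166
  · exact factP_blk167
  · exact factP_blk168
  · exact factP_blk169
  · exact factP_blk170
  · exact factP_blk171
  · exact factP_blk172
  · exact factP_blk173
  · exact factP_blk174
  · exact factP_blk175
  · exact factP_blk176
  · exact factP_blk177
  · exact factP_blk178
  · exact factP_blk179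
  · exact factP_blk180
  · exact factP_blk181
  · exact factP_blk182
  · exact factP_blk183
  · exact factP_blk184
  · exact factP_blk185
  · exact factP_blk186
  · exact factP_blk187
  · exact factP_blk188
  · exact factP_blk189
  · exact factP_blk190
  · exact factP_blk191

end

end Cfsg.Agent.Lib.Helper28.Suz22880
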