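import Cfsg.Agent.Lib.Helper28.Suz22880.ChkDefs

set_option autoImplicit false
set_option linter.unusedVariables false
set_option Elab.async false

namespace Cfsg.Agent.Lib.Helper28.Suz22880

open Cfsg.Spor.Suz (Gen)
open Cfsg.Agent.Lib.Helper28.TC

noncomputable section

theorem permP_blk624 : allRange (guard nn permP) 5 (624 * 2 ^ 5) = true := by decide +kernel
theorem permP_blk625 : allRange (guard nn permP) 5 (625 * 2 ^ 5) = true := by decide +kernel
theorem permP_blk626 : allRange (guard nn permP) 5 (626 * 2 ^ 5) = true := by decide +kernel
theorem permP_blk627 : allRange (guard nn permP) 5 (627 * 2 ^ 5) = true := by decide +kernel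
theorem permP_blk628 : allRange (guard nn permP) 5 (628 * 2 ^ 5) = true := by decide +kernel
theorem permP_blk629 : allRange (guard nn permP) 5 (629 * 2 ^ 5) = true := by decide +kernel
theorem permP_blk630 : allRange (guard nn permP) 5 (630 * 2 ^ 5) = true := by decide +kernel
theorem permP_blk631 : allRange (guard nn permP) 5 (631 * 2 ^ 5) = true := by decide +kernel
theorem permP_blk632 : allRange (guard nn permP) 5 (632 * 2 ^ 5) = true := by decide +kernel
theorem permP_blk633 : allRange (guard nn permP) 5 (633 * 2 ^ 5) = true := by decide +kernel
theorem permP_blk634 : allRange (guard nn permP) 5 (634 * 2 ^ 5) = true := by decide +kernel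
theorem permP_blk635 : allRange (guard nn permP) 5 (635 * 2 ^ 5) = true := by decide +kernel
theorem permP_blk636 : allRange (guard nn permP) 5 (636 * 2 ^ 5) = true := by decide +kernel
theorem permP_blk637 : allRange (guard nn permP) 5 (637 * 2 ^ 5) = true := by decide +kernel
theorem permP_blk638 : allRange (guard nn permP) 5 (638 * 2 ^ 5) = true := by decide +kernel
theorem permP_blk639 : allRange (guard nn permP) 5 (639 * 2 ^ 5) = true := by decide +kernel
theorem permP_blk640 : allRange (guard nn permP) 5 (640 * 2 ^ 5) = true := by decide +kernel
theorem permP_blk641 : allRange (guard nn permP) 5 (641 * 2 ^ 5) = true := by decide +kernel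
theorem permP_blk642 : allRange (guard nn permP) 5 (642 * 2 ^ 5) = true := by decide +kernel
theorem permP_blk643 : allRange (guard nn permP) 5 (643 * 2 ^ 5) = true := by decide +kernel
theorem permP_blk644 : allRange (guard nn permP) 5 (644 * 2 ^ 5) = true := by decide +kernel
theorem permP_blk645 : allRange (guard nn permP) 5 (645 * 2 ^ 5) = true := by decide +kernel
theorem permP_blk646 : allRange (guard nn permP) 5 (646 * 2 ^ 5) = true := by decide +kernel
theorem permP_blk647 : allRange (guard nn permP) 5 (647 * 2 ^ 5) = true := by decide +kernel
theorem permP_blk648 : allRange (guard nn permP) 5 (648 * 2 ^ 5) = true := by decide +kernel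
theorem permP_blk649 : allRange (guard nn permP) 5 (649 * 2 ^ 5) = true := by decide +kernel
theorem permP_blk650 : allRange (guard nn permP) 5 (650 * 2 ^ 5) = true := by decide +kernel
theorem permP_blk651 : allRange (guard nn permP) 5 (651 * 2 ^ 5) = true := by decide +kernel
theorem permP_blk652 : allRange (guard nn permP) 5 (652 * 2 ^ 5) = true := by decide +kernel
theorem permP_blk653 : allRange (guard nn permP) 5 (653 * 2 ^ 5) = true := by decide +kernel
theorem permP_blk654 : allRange (guard nn permP) 5 (654 * 2 ^ 5) = true := by decide +kernel
theorem permP_blk655 : allRange (guard nn permP) 5 (655 * 2 ^ 5) = true := by decide +kernel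
theorem permP_blk656 : allRange (guard nn permP) 5 (656 * 2 ^ 5) = true := by decide +kernel
theorem permP_blk657 : allRange (guard nn permP) 5 (657 * 2 ^ 5) = true := by decide +kernel
theorem permP_blk658 : allRange (guard nn permP) 5 (658 * 2 ^ 5) = true := by decide +kernel
theorem permP_blk659 : allRange (guard nn permP) 5 (659 * 2 ^ 5) = true := by decide +kernel
theorem permP_blk660 : allRange (guard nn permP) 5 (660 * 2 ^ 5) = true := by decide +kernel
theorem permP_blk661 : allRange (guard nn permP) 5 (661 * 2 ^ 5) = true := by decide +kernel
theorem permP_blk662 : allRange (guard nn permP) 5 (662 * 2 ^ 5) = true := by decide +kernel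
theorem permP_blk663 : allRange (guard nn permP) 5 (663 * 2 ^ 5) = true := by decide +kernel
theorem permP_blk664 : allRange (guard nn permP) 5 (664 * 2 ^ 5) = true := by decide +kernel
theorem permP_blk665 : allRange (guard nn permP) 5 (665 * 2 ^ 5) = true := by decide +kernel
theorem permP_blk666 : allRange (guard nn permP) 5 (666 * 2 ^ 5) = true := by decide +kernel
theorem permP_blk667 : allRange (guard nn permP) 5 (667 * 2 ^ 5) = true := by decide +kernel
theorem permP_blk668 : allRange (guard nn permP) 5 (668 * 2 ^ 5) = true := by decide +kernel
theorem permP_blk669 : allRange (guard nn permP) 5 (669 * 2 ^ 5) = true := by decide +kernel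
theorem permP_blk670 : allRange (guard nn permP) 5 (670 * 2 ^ 5) = true := by decide +kernel
theorem permP_blk671 : allRange (guard nn permP) 5 (671 * 2 ^ 5) = true := by decide +kernel
theorem permP_f13 : ∀ k, 624 ≤ k → k < 672 → allRange (guard nn permP) 5 (k * 2 ^ 5) = true := by
  intro k h1 h2
  interval_cases k
  · exact permP_blk624
  · exact permP_blk625
  · exact permP_blk626
  · exact permP_blk627
  · exact permP_blk628
  · exact permP_blk629
  · exact permP_blk630
  · exact permP_blk631
  · exact permP_blk632
  · exact permP_blk633
  · exact permP_blk634
  · exact permP_blk635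
  · exact permP_blk636
  · exact permP_blk637
  · exact permP_blk638
  · exact permP_blk639
  · exact permP_blk640
  · exact permP_blk641
  · exact permP_blk642
  · exact permP_blk643
  · exact permP_blk644
  · exact permP_blk645
  · exact permP_blk646
  · exact permP_blk647
  · exact permP_blk648
  · exact permP_blk649
  · exact permP_blk650
  · exact permP_blk651
  · exact permP_blk652
  · exact permP_blk653
  · exact permP_blk654
  · exact permP_blk655
  · exact permP_blk656
  · exact permP_blk657
  · exact permP_blk658
  · exact permP_blk659
  · exact permP_blk660
  · exact permP_blk661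
  · exact permP_blk662
  · exact permP_blk663
  · exact permP_blk664
  · exact permP_blk665
  · exact permP_blk666
  · exact permP_blk667
  · exact permP_blk668
  · exact permP_blk669
  · exact permP_blk670
  · exact permP_blk671

end

end Cfsg.Agent.Lib.Helper28.Suz22880
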