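import Cfsg.Agent.Lib.Helper28.Suz22880.ChkDefs

set_option autoImplicit false
set_option linter.unusedVariables false
set_option Elab.async false

namespace Cfsg.Agent.Lib.Helper28.Suz22880

open Cfsg.Spor.Suz (Gen)
open Cfsg.Agent.Lib.Helper28.TC

noncomputable section

theorem permP_blk384 : allRange (guard nn permP) 5 (384 * 2 ^ 5) = true := by decide +kernel
theorem permP_blk385 : allRange (guard nn permP) 5 (385 * 2 ^ 5) = true := by decide +kernel
theorem permP_blk386 : allRange (guard nn permP) 5 (386 * 2 ^ 5) = true := by decide +kernel
theorem permP_blk387 : allRange (guard nn permP) 5 (387 * 2 ^ 5) = true := by decide +kernel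
theorem permP_blk388 : allRange (guard nn permP) 5 (388 * 2 ^ 5) = true := by decide +kernel
theorem permP_blk389 : allRange (guard nn permP) 5 (389 * 2 ^ 5) = true := by decide +kernel
theorem permP_blk390 : allRange (guard nn permP) 5 (390 * 2 ^ 5) = true := by decide +kernel
theorem permP_blk391 : allRange (guard nn permP) 5 (391 * 2 ^ 5) = true := by decide +kernel
theorem permP_blk392 : allRange (guard nn permP) 5 (392 * 2 ^ 5) = true := by decide +kernel
theorem permP_blk393 : allRange (guard nn permP) 5 (393 * 2 ^ 5) = true := by decide +kernel
theorem permP_blk394 : allRange (guard nn permP) 5 (394 * 2 ^ 5) = true := by decide +kernel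
theorem permP_blk395 : allRange (guard nn permP) 5 (395 * 2 ^ 5) = true := by decide +kernel
theorem permP_blk396 : allRange (guard nn permP) 5 (396 * 2 ^ 5) = true := by decide +kernel
theorem permP_blk397 : allRange (guard nn permP) 5 (397 * 2 ^ 5) = true := by decide +kernel
theorem permP_blk398 : allRange (guard nn permP) 5 (398 * 2 ^ 5) = true := by decide +kernel
theorem permP_blk399 : allRange (guard nn permP) 5 (399 * 2 ^ 5) = true := by decide +kernel
theorem permP_blk400 : allRange (guard nn permP) 5 (400 * 2 ^ 5) = true := by decide +kernel
theorem permP_blk401 : allRange (guard nn permP) 5 (401 * 2 ^ 5) = true := by decide +kernel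
theorem permP_blk402 : allRange (guard nn permP) 5 (402 * 2 ^ 5) = true := by decide +kernel
theorem permP_blk403 : allRange (guard nn permP) 5 (403 * 2 ^ 5) = true := by decide +kernel
theorem permP_blk404 : allRange (guard nn permP) 5 (404 * 2 ^ 5) = true := by decide +kernel
theorem permP_blk405 : allRange (guard nn permP) 5 (405 * 2 ^ 5) = true := by decide +kernel
theorem permP_blk406 : allRange (guard nn permP) 5 (406 * 2 ^ 5) = true := by decide +kernel
theorem permP_blk407 : allRange (guard nn permP) 5 (407 * 2 ^ 5) = true := by decide +kernel
theorem permP_blk408 : allRange (guard nn permP) 5 (408 * 2 ^ 5) = true := by decide +kernel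
theorem permP_blk409 : allRange (guard nn permP) 5 (409 * 2 ^ 5) = true := by decide +kernel
theorem permP_blk410 : allRange (guard nn permP) 5 (410 * 2 ^ 5) = true := by decide +kernel
theorem permP_blk411 : allRange (guard nn permP) 5 (411 * 2 ^ 5) = true := by decide +kernel
theorem permP_blk412 : allRange (guard nn permP) 5 (412 * 2 ^ 5) = true := by decide +kernel
theorem permP_blk413 : allRange (guard nn permP) 5 (413 * 2 ^ 5) = true := by decide +kernel
theorem permP_blk414 : allRange (guard nn permP) 5 (414 * 2 ^ 5) = true := by decide +kernel
theorem permP_blk415 : allRange (guard nn permP) 5 (415 * 2 ^ 5) = true := by decide +kernel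
theorem permP_blk416 : allRange (guard nn permP) 5 (416 * 2 ^ 5) = true := by decide +kernel
theorem permP_blk417 : allRange (guard nn permP) 5 (417 * 2 ^ 5) = true := by decide +kernel
theorem permP_blk418 : allRange (guard nn permP) 5 (418 * 2 ^ 5) = true := by decide +kernel
theorem permP_blk419 : allRange (guard nn permP) 5 (419 * 2 ^ 5) = true := by decide +kernel
theorem permP_blk420 : allRange (guard nn permP) 5 (420 * 2 ^ 5) = true := by decide +kernel
theorem permP_blk421 : allRange (guard nn permP) 5 (421 * 2 ^ 5) = true := by decide +kernel
theorem permP_blk422 : allRange (guard nn permP) 5 (422 * 2 ^ 5) = true := by decide +kernel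
theorem permP_blk423 : allRange (guard nn permP) 5 (423 * 2 ^ 5) = true := by decide +kernel
theorem permP_blk424 : allRange (guard nn permP) 5 (424 * 2 ^ 5) = true := by decide +kernel
theorem permP_blk425 : allRange (guard nn permP) 5 (425 * 2 ^ 5) = true := by decide +kernel
theorem permP_blk426 : allRange (guard nn permP) 5 (426 * 2 ^ 5) = true := by decide +kernel
theorem permP_blk427 : allRange (guard nn permP) 5 (427 * 2 ^ 5) = true := by decide +kernel
theorem permP_blk428 : allRange (guard nn permP) 5 (428 * 2 ^ 5) = true := by decide +kernel
theorem permP_blk429 : allRange (guard nn permP) 5 (429 * 2 ^ 5) = true := by decide +kernel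
theorem permP_blk430 : allRange (guard nn permP) 5 (430 * 2 ^ 5) = true := by decide +kernel
theorem permP_blk431 : allRange (guard nn permP) 5 (431 * 2 ^ 5) = true := by decide +kernel
theorem permP_f8 : ∀ k, 384 ≤ k → k < 432 → allRange (guard nn permP) 5 (k * 2 ^ 5) = true := by
  intro k h1 h2
  interval_cases k
  · exact permP_blk384
  · exact permP_blk385
  · exact permP_blk386
  · exact permP_blk387
  · exact permP_blk388
  · exact permP_blk389
  · exact permP_blk390
  · exact permP_blk391
  · exact permP_blk392
  · exact permP_blk393
  · exact permP_blk394
  · exact permP_blk395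
  · exact permP_blk396
  · exact permP_blk397
  · exact permP_blk398
  · exact permP_blk399
  · exact permP_blk400
  · exact permP_blk401
  · exact permP_blk402
  · exact permP_blk403
  · exact permP_blk404
  · exact permP_blk405
  · exact permP_blk406
  · exact permP_blk407
  · exact permP_blk408
  · exact permP_blk409
  · exact permP_blk410
  · exact permP_blk411
  · exact permP_blk412
  · exact permP_blk413
  · exact permP_blk414
  · exact permP_blk415
  · exact permP_blk416
  · exact permP_blk417
  · exact permP_blk418
  · exact permP_blk419
  · exact permP_blk420
  · exact permP_blk421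
  · exact permP_blk422
  · exact permP_blk423
  · exact permP_blk424
  · exact permP_blk425
  · exact permP_blk426
  · exact permP_blk427
  · exact permP_blk428
  · exact permP_blk429
  · exact permP_blk430
  · exact permP_blk431

end

end Cfsg.Agent.Lib.Helper28.Suz22880
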