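import Cfsg.Agent.Lib.Helper28.Suz22880.ChkDefs

set_option autoImplicit false
set_option linter.unusedVariables false
set_option Elab.async false

namespace Cfsg.Agent.Lib.Helper28.Suz22880

open Cfsg.Spor.Suz (Gen)
open Cfsg.Agent.Lib.Helper28.TC

noncomputable section

theorem closedP_blk64 : allRange (guard nn closedP) 8 (64 * 2 ^ 8) = true := by decide +kernel
theorem closedP_blk65 : allRange (guard nn closedP) 8 (65 * 2 ^ 8) = true := by decide +kernel
theorem closedP_blk66 : allRange (guard nn closedP) 8 (66 * 2 ^ 8) = true := by decide +kernel
theorem closedP_blk67 : allRange (guard nn closedP) 8 (67 * 2 ^ 8) = true := by decide +kernel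
theorem closedP_blk68 : allRange (guard nn closedP) 8 (68 * 2 ^ 8) = true := by decide +kernel
theorem closedP_blk69 : allRange (guard nn closedP) 8 (69 * 2 ^ 8) = true := by decide +kernel
theorem closedP_blk70 : allRange (guard nn closedP) 8 (70 * 2 ^ 8) = true := by decide +kernel
theorem closedP_blk71 : allRange (guard nn closedP) 8 (71 * 2 ^ 8) = true := by decide +kernel
theorem closedP_blk72 : allRange (guard nn closedP) 8 (72 * 2 ^ 8) = true := by decide +kernel
theorem closedP_blk73 : allRange (guard nn closedP) 8 (73 * 2 ^ 8) = true := by decide +kernel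
theorem closedP_blk74 : allRange (guard nn closedP) 8 (74 * 2 ^ 8) = true := by decide +kernel
theorem closedP_blk75 : allRange (guard nn closedP) 8 (75 * 2 ^ 8) = true := by decide +kernel
theorem closedP_blk76 : allRange (guard nn closedP) 8 (76 * 2 ^ 8) = true := by decide +kernel
theorem closedP_blk77 : allRange (guard nn closedP) 8 (77 * 2 ^ 8) = true := by decide +kernel
theorem closedP_blk78 : allRange (guard nn closedP) 8 (78 * 2 ^ 8) = true := by decide +kernel
theorem closedP_blk79 : allRange (guard nn closedP) 8 (79 * 2 ^ 8) = true := by decide +kernel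
theorem closedP_blk80 : allRange (guard nn closedP) 8 (80 * 2 ^ 8) = true := by decide +kernel
theorem closedP_blk81 : allRange (guard nn closedP) 8 (81 * 2 ^ 8) = true := by decide +kernel
theorem closedP_blk82 : allRange (guard nn closedP) 8 (82 * 2 ^ 8) = true := by decide +kernel
theorem closedP_blk83 : allRange (guard nn closedP) 8 (83 * 2 ^ 8) = true := by decide +kernel
theorem closedP_blk84 : allRange (guard nn closedP) 8 (84 * 2 ^ 8) = true := by decide +kernel
theorem closedP_blk85 : allRange (guard nn closedP) 8 (85 * 2 ^ 8) = true := by decide +kernel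
theorem closedP_blk86 : allRange (guard nn closedP) 8 (86 * 2 ^ 8) = true := by decide +kernel
theorem closedP_blk87 : allRange (guard nn closedP) 8 (87 * 2 ^ 8) = true := by decide +kernel
theorem closedP_blk88 : allRange (guard nn closedP) 8 (88 * 2 ^ 8) = true := by decide +kernel
theorem closedP_blk89 : allRange (guard nn closedP) 8 (89 * 2 ^ 8) = true := by decide +kernel
theorem closedP_f1 : ∀ k, 64 ≤ k → k < 90 → allRange (guard nn closedP) 8 (k * 2 ^ 8) = true := by
  intro k h1 h2
  interval_cases k
  · exact closedP_blk64
  · exact closedP_blk65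
  · exact closedP_blk66
  · exact closedP_blk67
  · exact closedP_blk68
  · exact closedP_blk69
  · exact closedP_blk70
  · exact closedP_blk71
  · exact closedP_blk72
  · exact closedP_blk73
  · exact closedP_blk74
  · exact closedP_blk75
  · exact closedP_blk76
  · exact closedP_blk77
  · exact closedP_blk78
  · exact closedP_blk79
  · exact closedP_blk80
  · exact closedP_blk81
  · exact closedP_blk82
  · exact closedP_blk83
  · exact closedP_blk84
  · exact closedP_blk85
  · exact closedP_blk86
  · exact closedP_blk87
  · exact closedP_blk88
  · exact closedP_blk89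

end

end Cfsg.Agent.Lib.Helper28.Suz22880
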